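import Cfsg.Prelude.Def_PLocal
import Cfsg.Prelude.Def_Local
import Cfsg.Agent.Lib.Thompson.ZJ
import Cfsg.Agent.Lib.Components.Cores

/-!
A group has a `q`-inversion when some 2-element normalizes, but does not centralize, a `q`-subgroup;
for odd `q` this says that some non-identity `q`-element is conjugate to its inverse.
-/

set_option autoImplicit false
set_option linter.style.haveILetI false

namespace Cfsg.Agent.Lib.InvZJ

open Subgroup

variable {G : Type*} [Group G] {q : ℕ}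

/-- Some 2-element of `H` normalizes but does not centralize a `q`-subgroup of `H`. -/
def HasInv (q : ℕ) (H : Subgroup G) : Prop :=
  ∃ h : G, ∃ X : Subgroup G, h ∈ H ∧ (∃ k : ℕ, h ^ 2 ^ k = 1) ∧ IsPGroup q ↥X ∧ X ≤ H ∧
    h ∈ normalizer (X : Set G) ∧ h ∉ centralizer (X : Set G)

lemma HasInv.mono {H K : Subgroup G} (h : HasInv q H) (hle : H ≤ K) : HasInv q K := by
  obtain ⟨g, X, hg, hk, hX, hXH, hn, hc⟩ := h
  exact ⟨g, X, hle hg, hk, hX, hXH.trans hle, hn, hc⟩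

lemma HasInv.map {G' : Type*} [Group G'] {H : Subgroup G} (h : HasInv q H) (f : G →* G')
    (hf : Function.Injective f) : HasInv q (H.map f) := by
  obtain ⟨g, X, hg, ⟨k, hk⟩, hX, hXH, hn, hc⟩ := h
  refine ⟨f g, X.map f, mem_map_of_mem f hg, ⟨k, by rw [← map_pow, hk, map_one]⟩, hX.map f, map_mono hXH,
    le_normalizer_map f (mem_map_of_mem f hn), fun h' => hc (mem_centralizer_iff.2 fun x hx => hf ?_)⟩
  rw [map_mul, map_mul]
  exact mem_centralizer_iff.1 h' _ (mem_map_of_mem f hx)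

lemma hasInv_top_of_hasInv {H : Subgroup G} (h : HasInv q H) : HasInv q (⊤ : Subgroup ↥H) := by
  obtain ⟨g, X, hg, ⟨k, hk⟩, hX, hXH, hn, hc⟩ := h
  refine ⟨⟨g, hg⟩, X.subgroupOf H, mem_top _, ⟨k, Subtype.ext (by simpa using hk)⟩, hX.comap_subtype, le_top,
    mem_normalizer_iff.2 fun x => ?_, fun h' => hc (mem_centralizer_iff.2 fun x hx => ?_)⟩
  · simp only [mem_subgroupOf]
    exact mem_normalizer_iff.1 hn x
  · exact congrArg Subtype.val (mem_centralizer_iff.1 h' ⟨x, hXH hx⟩ (mem_subgroupOf.2 hx))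

lemma hasInv_of_hasInv_top {H : Subgroup G} (h : HasInv q (⊤ : Subgroup ↥H)) : HasInv q H :=
  (h.map H.subtype H.subtype_injective).mono (map_subtype_le _)

variable [Finite G]

/-- The 2-part of an element, as a power with odd exponent. -/
lemma exists_odd_pow (g : G) : ∃ m : ℕ, Odd m ∧ ∃ k : ℕ, (g ^ m) ^ 2 ^ k = 1 := by
  refine ⟨orderOf g / 2 ^ (orderOf g).factorization 2, ?_, (orderOf g).factorization 2, ?_⟩
  · exact Nat.odd_iff.2 (by
      have := Nat.not_dvd_ordCompl Nat.prime_two (orderOf_pos g).ne'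
      omega)
  · rw [← pow_mul, Nat.div_mul_cancel (Nat.ordProj_dvd _ _), pow_orderOf_eq_one]

omit [Finite G] in
lemma conj_pow_of_inverts {g x : G} (h : g * x * g⁻¹ = x⁻¹) {m : ℕ} (hm : Odd m) :
    g ^ m * x * (g ^ m)⁻¹ = x⁻¹ := by
  obtain ⟨j, rfl⟩ := hm
  have h2 : g ^ 2 * x * (g ^ 2)⁻¹ = x := by
    calc g ^ 2 * x * (g ^ 2)⁻¹ = g * (g * x * g⁻¹) * g⁻¹ := by rw [pow_two]; group
      _ = (g * x * g⁻¹)⁻¹ := by rw [h]; nth_rewrite 2 [← h]; group
      _ = x := by rw [h, inv_inv]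
  have h3 : Commute (g ^ 2) x := mul_inv_eq_iff_eq_mul.1 h2
  calc g ^ (2 * j + 1) * x * (g ^ (2 * j + 1))⁻¹
      = g * ((g ^ 2) ^ j * x * ((g ^ 2) ^ j)⁻¹) * g⁻¹ := by rw [← pow_mul, pow_succ']; group
    _ = g * x * g⁻¹ := by rw [(h3.pow_left j).eq, mul_inv_cancel_right]
    _ = x⁻¹ := h

omit [Finite G] in
lemma ne_inv_of_odd [Fact q.Prime] (hq : q ≠ 2) {x : G} {n : ℕ} (hx : x ^ q ^ n = 1) (hx1 : x ≠ 1) :
    x⁻¹ ≠ x := fun h => hx1 (by
  have h2 : x ^ 2 = 1 := by rw [pow_two]; nth_rewrite 1 [← h]; rw [inv_mul_cancel]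
  have := pow_gcd_eq_one.2 ⟨hx, h2⟩
  rwa [(Nat.Coprime.pow_left n ((Nat.coprime_primes Fact.out Nat.prime_two).2 hq)), pow_one] at this)

/-- An inverted non-identity `q`-element gives a `q`-inversion. -/
lemma hasInv_of_inverted [Fact q.Prime] (hq : q ≠ 2) {H : Subgroup G} {x g : G} (hxH : x ∈ H) (hgH : g ∈ H)
    (hx1 : x ≠ 1) {n : ℕ} (hx : x ^ q ^ n = 1) (h : g * x * g⁻¹ = x⁻¹) : HasInv q H := by
  obtain ⟨m, hm, k, hk⟩ := exists_odd_pow g
  have h1 := conj_pow_of_inverts h hm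
  refine ⟨g ^ m, zpowers x, pow_mem hgH m, ⟨k, hk⟩, ?_, zpowers_le.2 hxH, ?_, fun hc => ?_⟩
  · obtain ⟨j, -, hj⟩ := (Nat.dvd_prime_pow Fact.out).1 (orderOf_dvd_of_pow_eq_one hx)
    exact IsPGroup.of_card (by rw [Nat.card_zpowers, hj])
  · refine Thompson.mem_normalizer_of_forall_conj fun y hy => ?_
    obtain ⟨i, rfl⟩ := mem_zpowers_iff.1 hy
    rw [← conj_zpow, h1, inv_zpow]
    exact inv_mem (zpow_mem (mem_zpowers x) i)
  · refine ne_inv_of_odd hq hx hx1 ?_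
    rw [← h1, ← mem_centralizer_iff.1 hc x (mem_zpowers x), mul_inv_cancel_right]

omit [Finite G] in
/-- A `q`-inversion gives an inverted `q`-element. -/
lemma HasInv.exists_inverted [Fact q.Prime] {H : Subgroup G} (h : HasInv q H) :
    ∃ x g : G, x ∈ H ∧ g ∈ H ∧ x ≠ 1 ∧ (∃ n : ℕ, x ^ q ^ n = 1) ∧ g * x * g⁻¹ = x⁻¹ := by
  classical
  obtain ⟨h, X, hh, ⟨k, hk⟩, hX, hXH, hn, hc⟩ := h
  have hex : ∃ i, h ^ 2 ^ i ∈ centralizer (X : Set G) := ⟨k, by rw [hk]; exact one_mem _⟩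
  obtain ⟨i, hi, hmin⟩ : ∃ i, h ^ 2 ^ i ∈ centralizer (X : Set G) ∧ ∀ j < i, h ^ 2 ^ j ∉ centralizer (X : Set G) :=
    ⟨Nat.find hex, Nat.find_spec hex, fun j hj => Nat.find_min hex hj⟩
  obtain ⟨j, rfl⟩ : ∃ j, i = j + 1 := Nat.exists_eq_succ_of_ne_zero (by
    rintro rfl; exact hc (by simpa using hi))
  set g := h ^ 2 ^ j with hg
  have hg2 : g * g ∈ centralizer (X : Set G) := by
    rw [hg, ← pow_add]; convert hi using 2; ring
  obtain ⟨u, hu, hne⟩ : ∃ u ∈ X, g * u * g⁻¹ ≠ u := by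
    by_contra hh'
    push Not at hh'
    exact hmin j (by omega) (mem_centralizer_iff.2 fun u hu => (mul_inv_eq_iff_eq_mul.1 (hh' u hu)).symm)
  have hgn : g ∈ normalizer (X : Set G) := pow_mem hn _
  have hgu : g * u * g⁻¹ ∈ X := (mem_normalizer_iff.1 hgn u).1 hu
  obtain ⟨n, hn'⟩ := hX ⟨_, mul_mem (inv_mem hu) hgu⟩
  refine ⟨u⁻¹ * (g * u * g⁻¹), g, hXH (mul_mem (inv_mem hu) hgu), pow_mem hh _,
    fun e => hne (inv_mul_eq_one.1 e).symm, ⟨n, by simpa using congrArg Subtype.val hn'⟩, ?_⟩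
  calc g * (u⁻¹ * (g * u * g⁻¹)) * g⁻¹ = (g * u⁻¹ * g⁻¹) * ((g * g) * u * (g * g)⁻¹) := by group
    _ = (g * u⁻¹ * g⁻¹) * u := by rw [← mem_centralizer_iff.1 hg2 u hu, mul_inv_cancel_right]
    _ = _ := by group

/-- `q`-inversions lift along surjections. -/
theorem hasInv_top_of_surjective [Fact q.Prime] (hq : q ≠ 2) {K : Type*} [Group K] [Finite K] (f : G →* K)
    (hf : Function.Surjective f) (h : HasInv q (⊤ : Subgroup K)) : HasInv q (⊤ : Subgroup G) := by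
  obtain ⟨x, g, -, -, hx1, ⟨n, hx⟩, hgx⟩ := h.exists_inverted
  obtain ⟨g0, rfl⟩ := hf g
  set Y := (zpowers x).comap f with hY
  set N := normalizer (Y : Set G) with hN
  have hg0 : g0 ∈ N := by
    refine Thompson.mem_normalizer_of_forall_conj fun y hy => ?_
    obtain ⟨i, hi⟩ := mem_zpowers_iff.1 (show f y ∈ zpowers x from hy)
    show f (g0 * y * g0⁻¹) ∈ zpowers x
    rw [map_mul, map_mul, map_inv, ← hi, ← conj_zpow, hgx, inv_zpow]
    exact inv_mem (zpow_mem (mem_zpowers x) i)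
  haveI hYn : (Y.subgroupOf N).Normal := normal_subgroupOf_of_le_normalizer le_rfl
  obtain ⟨S⟩ : Nonempty (Sylow q ↥(Y.subgroupOf N)) := inferInstance
  obtain ⟨nn, hnn, y, hy, hny⟩ := mem_sup_of_normal_right.1
    ((Sylow.normalizer_sup_eq_top S).symm ▸ mem_top (⟨g0, hg0⟩ : ↥N))
  set SG := ((S : Subgroup ↥(Y.subgroupOf N)).map (Y.subgroupOf N).subtype).map N.subtype with hSG
  -- `S` maps onto `⟨x⟩`
  let φ : ↥(Y.subgroupOf N) →* ↥(zpowers x) :=
    (f.comp (N.subtype.comp (Y.subgroupOf N).subtype)).codRestrict (zpowers x) fun w => w.2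
  have hφ : Function.Surjective φ := by
    rintro ⟨z, hz⟩
    obtain ⟨w, rfl⟩ := hf z
    exact ⟨⟨⟨w, le_normalizer (show w ∈ Y from hz)⟩, show w ∈ Y from hz⟩, rfl⟩
  obtain ⟨j, -, hj⟩ := (Nat.dvd_prime_pow Fact.out).1 (orderOf_dvd_of_pow_eq_one hx)
  have hzp : IsPGroup q ↥(zpowers x) := IsPGroup.of_card (by rw [Nat.card_zpowers, hj])
  have htop : ((S.mapSurjective hφ : Sylow q ↥(zpowers x)) : Subgroup ↥(zpowers x)) = ⊤ :=
    ((S.mapSurjective hφ).is_maximal' (hzp.to_subgroup ⊤) le_top).symm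
  obtain ⟨s, hs, hsx⟩ := show (⟨x, mem_zpowers x⟩ : ↥(zpowers x)) ∈ (S : Subgroup ↥(Y.subgroupOf N)).map φ by
    rw [← Sylow.coe_mapSurjective hφ S, htop]; exact mem_top _
  have hsx' : f ((s : ↥N) : G) = x := congrArg Subtype.val hsx
  -- the element
  have hnx : f (nn : G) * x * (f (nn : G))⁻¹ = x⁻¹ := by
    have hg : g0 = (nn : G) * (y : G) := congrArg Subtype.val hny.symm
    obtain ⟨i, hi⟩ := mem_zpowers_iff.1 (show f (y : G) ∈ zpowers x from hy)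
    rw [← hgx, hg, map_mul, ← hi]
    group
  obtain ⟨m, hm, k, hk⟩ := exists_odd_pow (nn : G)
  refine ⟨(nn : G) ^ m, SG, mem_top _, ⟨k, hk⟩, (S.2.map _).map _, le_top, pow_mem ?_ m, fun hc => ?_⟩
  · exact le_normalizer_map N.subtype (mem_map_of_mem N.subtype hnn)
  · refine ne_inv_of_odd hq hx hx1 ?_
    have h1 := congrArg f (mem_centralizer_iff.1 hc _ (mem_map_of_mem N.subtype (mem_map_of_mem _ hs)))
    rw [map_mul, map_mul] at h1
    simp only [coe_subtype] at h1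
    rw [hsx'] at h1
    rw [← conj_pow_of_inverts hnx hm, ← map_pow, ← h1, mul_inv_cancel_right]

/-- In a group with a normal Sylow 2-subgroup there are no inversions. -/
theorem not_hasInv_of_normal_sylow [Fact q.Prime] (hq : q ≠ 2) (P : Sylow 2 G) (hP : (P : Subgroup G).Normal)
    (H : Subgroup G) : ¬ HasInv q H := by
  haveI : Fact (Nat.Prime 2) := ⟨Nat.prime_two⟩
  rintro ⟨h, X, -, ⟨k, hk⟩, hX, -, hn, hc⟩
  have hhP : h ∈ (P : Subgroup G) := by
    obtain ⟨j, -, hj⟩ := (Nat.dvd_prime_pow Nat.prime_two).1 (orderOf_dvd_of_pow_eq_one hk)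
    have hz : IsPGroup 2 ↥(zpowers h) := IsPGroup.of_card (by rw [Nat.card_zpowers, hj])
    obtain ⟨T, hT⟩ := hz.exists_le_sylow
    haveI := hP
    letI := Sylow.unique_of_normal P hP
    exact (Subsingleton.elim T P) ▸ hT (mem_zpowers h)
  refine hc (mem_centralizer_iff.2 fun x hx => ?_)
  have h1 : h * x * h⁻¹ * x⁻¹ ∈ (P : Subgroup G) ⊓ X := by
    refine ⟨?_, Subgroup.mul_mem X ((mem_normalizer_iff.1 hn x).1 hx) (Subgroup.inv_mem X hx)⟩
    rw [show h * x * h⁻¹ * x⁻¹ = h * (x * h⁻¹ * x⁻¹) by group]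
    exact Subgroup.mul_mem _ hhP (hP.conj_mem _ (Subgroup.inv_mem _ hhP) x)
  rw [(IsPGroup.disjoint_of_ne 2 q (Ne.symm hq) _ _ P.isPGroup' hX).eq_bot, mem_bot, mul_inv_eq_one] at h1
  exact (mul_inv_eq_iff_eq_mul.1 h1).symm

end Cfsg.Agent.Lib.InvZJ
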