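import Cfsg.Agent.Lib.Thompson.ZJ
import Cfsg.Agent.S0651

/-!
Glauberman's ZJ theorem with the stability assumption restricted to the elements of the members of `𝒜(S)`.
The proofs are those of `Lib.Thompson.zj_normal` and S0653.
-/

set_option autoImplicit false
open Subgroup
open scoped commutatorElement

namespace Cfsg.Agent.Lib.InvZJ

open Cfsg.Agent.Lib.Thompson

variable {G : Type*} [Group G] {p : ℕ}

/-- Glauberman's argument: `Z` is normal. -/
theorem zj_normal_of_quad [Finite G] [hp : Fact p.Prime] (S : Sylow p G) (F : Set (Subgroup G)) (Z : Subgroup G)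
    (hF : F.Nonempty) (hFS : ∀ A ∈ F, A ≤ (S : Subgroup G)) (hFab : ∀ A ∈ F, IsMulCommutative A)
    (hconj : ∀ A ∈ F, ∀ g : G, A.map (MulAut.conj g).toMonoidHom ≤ (S : Subgroup G) →
      A.map (MulAut.conj g).toMonoidHom ∈ F)
    (hrep : ∀ B : Subgroup G, B.Normal → B ≤ (S : Subgroup G) → ⁅⁅B, B⁆, B⁆ = ⊥ →
      (∃ U ∈ F, ⁅B, B⁆ ≤ U ∧ ¬ B ≤ U) →
      ∃ A ∈ F, ⁅B, B⁆ ≤ A ∧ ¬ B ≤ A ∧ B ≤ normalizer (A : Set G))
    (hZF : ∀ A ∈ F, Z ≤ A)
    (hZn : ∀ n : G, (∀ A ∈ F, A.map (MulAut.conj n).toMonoidHom ∈ F) → ∀ x ∈ Z, n * x * n⁻¹ ∈ Z)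
    (hc : centralizer (Cfsg.pCore p G : Set G) ≤ Cfsg.pCore p G)
    (hst : ∀ (P : Subgroup G) [P.Normal], IsPGroup p P → ∀ A ∈ F, ∀ a ∈ A,
      ⁅⁅P, zpowers a⁆, zpowers a⁆ = ⊥ →
      (QuotientGroup.mk a : G ⧸ centralizer (P : Set G)) ∈ Cfsg.pCore p (G ⧸ centralizer (P : Set G))) :
    Z.Normal := by
  obtain ⟨A₁, hA₁⟩ := hF
  have hZS : Z ≤ (S : Subgroup G) := (hZF A₁ hA₁).trans (hFS A₁ hA₁)
  have hZc : ∀ x ∈ Z, ∀ y ∈ Z, x * y = y * x := fun x hx y hy => by
    have := hFab A₁ hA₁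
    exact congrArg Subtype.val (mul_comm' (⟨x, hZF A₁ hA₁ hx⟩ : A₁) ⟨y, hZF A₁ hA₁ hy⟩)
  have hSF : ∀ s ∈ (S : Subgroup G), ∀ A ∈ F, A.map (MulAut.conj s).toMonoidHom ∈ F := by
    intro s hs A hA
    refine hconj A hA s ?_
    rintro _ ⟨a, ha, rfl⟩
    exact mul_mem (mul_mem hs (hFS A hA ha)) (inv_mem hs)
  have hSZ : ∀ s ∈ (S : Subgroup G), ∀ x ∈ Z, s * x * s⁻¹ ∈ Z := fun s hs => hZn s (hSF s hs)
  suffices key : ∀ B : Subgroup G, B.Normal → IsPGroup p B → (B ⊓ Z).Normal by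
    have hZQ : Z ≤ Cfsg.pCore p G := by
      intro z hz
      have hQS := Cfsg.Agent.Lib.Hall.pCore_le_sylow S
      have h1 : ⁅Cfsg.pCore p G, zpowers z⁆ ≤ Z := commutator_le.mpr fun q hq v hv => by
        have hv' := zpowers_le.mpr hz hv
        rw [commutatorElement_def]
        exact mul_mem (hSZ q (hQS hq) v hv') (inv_mem hv')
      have h2 := hst _ (Cfsg.Agent.Lib.Hall.isPGroup_pCore p) A₁ hA₁ z (hZF A₁ hA₁ hz) (eq_bot_iff.mpr
        ((commutator_mono h1 (zpowers_le.mpr hz)).trans (commutator_le.mpr fun u hu v hv => by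
          rw [mem_bot, commutatorElement_eq_one_iff_commute]; exact hZc u hu v hv)))
      let π := QuotientGroup.mk' (centralizer (Cfsg.pCore p G : Set G))
      let D := (Cfsg.pCore p (G ⧸ centralizer (Cfsg.pCore p G : Set G))).comap π
      have hDp : IsPGroup p D := (Cfsg.Agent.Lib.Hall.isPGroup_pCore p).comap_of_ker_isPGroup π (by
        rw [QuotientGroup.ker_mk']
        exact (Cfsg.Agent.Lib.Hall.isPGroup_pCore p).to_le hc)
      exact Cfsg.Agent.Lib.Hall.le_pCore (N := D) hDp h2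
    have := key _ inferInstance (Cfsg.Agent.Lib.Hall.isPGroup_pCore p)
    rwa [inf_eq_right.mpr hZQ] at this
  intro B
  induction hn : Nat.card B using Nat.strong_induction_on generalizing B with
  | _ n ih =>
  intro hBn hBp
  subst hn
  by_contra hbad
  set Z₁ := B ⊓ Z with hZ₁
  have hBS : B ≤ (S : Subgroup G) :=
    (Cfsg.Agent.Lib.Hall.le_pCore hBp).trans (Cfsg.Agent.Lib.Hall.pCore_le_sylow S)
  let B₁ := normalClosure (Z₁ : Set G)
  have hB₁B : B₁ ≤ B := normalClosure_le_normal inf_le_left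
  have hB₁eq : B₁ = B := by
    refine eq_of_le_of_card_ge hB₁B (not_lt.mp fun hlt => hbad ?_)
    have h1 := ih _ hlt B₁ rfl normalClosure_normal (hBp.to_le hB₁B)
    have h2 : B₁ ⊓ Z = Z₁ := le_antisymm (inf_le_inf_right _ hB₁B) (le_inf le_normalClosure inf_le_right)
    rwa [h2] at h1
  have hBnt : Nontrivial B := by
    rw [nontrivial_iff_ne_bot]
    intro hb
    apply hbad
    have : Z₁ = ⊥ := by rw [hZ₁, hb, bot_inf_eq]
    rw [this]; infer_instance
  have hlt : ⁅B, B⁆ < B := by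
    refine lt_of_le_of_ne (commutator_le_self B) fun e => ?_
    have h1 : commutator B = ⊤ := by
      apply map_injective B.subtype_injective
      rw [map_subtype_commutator, e, ← MonoidHom.range_eq_map, range_subtype]
    have : Group.IsNilpotent B := hBp.isNilpotent
    have h2 : ∀ k, (⊤ : Subgroup B).lowerCentralSeries k = ⊤ := by
      intro k
      induction k with
      | zero => rfl
      | succ k ihk => rw [Subgroup.lowerCentralSeries_succ, ihk]; exact h1
    obtain ⟨k, hk⟩ := Subgroup.nilpotent_iff_lowerCentralSeries.mp ‹Group.IsNilpotent B›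
    exact bot_ne_top (hk.symm.trans (h2 k))
  have hD : ((⁅B, B⁆ : Subgroup G) ⊓ Z).Normal :=
    ih _ (Set.ncard_lt_ncard (SetLike.coe_ssubset_coe.mpr hlt) (Set.toFinite _)) _ rfl inferInstance
      (hBp.to_le hlt.le)
  have hgenB : ∀ {K : Subgroup G}, (∀ g : G, ∀ x ∈ Z₁, g * x * g⁻¹ ∈ K) → B ≤ K := by
    intro K h
    rw [← hB₁eq]
    refine (closure_le K).mpr fun v hv => ?_
    obtain ⟨x, hx, hv'⟩ := Group.mem_conjugatesOfSet_iff.mp hv
    obtain ⟨g, rfl⟩ := isConj_iff.mp hv'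
    exact h g x hx
  have hcomm : ∀ x ∈ Z₁, ∀ y ∈ B, ⁅x, y⁆ ∈ ⁅B, B⁆ ⊓ Z := by
    intro x hx y hy
    refine mem_inf.mpr ⟨commutator_mem_commutator hx.1 hy, ?_⟩
    rw [← commutatorElement_inv]
    refine inv_mem ?_
    rw [commutatorElement_def]
    exact mul_mem (hSZ y (hBS hy) x hx.2) (inv_mem hx.2)
  have hB'Z : ⁅B, B⁆ ≤ ⁅B, B⁆ ⊓ Z := by
    rw [commutator_le]
    intro u hu y hy
    let π := QuotientGroup.mk' (⁅B, B⁆ ⊓ Z)
    have hle : B ≤ (centralizer (B.map π : Set (G ⧸ ⁅B, B⁆ ⊓ Z))).comap π := by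
      refine hgenB fun g x hx => mem_centralizer_iff.mpr ?_
      rintro _ ⟨w, hw, rfl⟩
      refine (commutatorElement_eq_one_iff_commute.mp ?_ : Commute (π (g * x * g⁻¹)) (π w)).symm
      rw [← map_commutatorElement]
      refine (QuotientGroup.eq_one_iff _).mpr ?_
      have h := hD.conj_mem _ (hcomm x hx _ (hBn.conj_mem w hw g⁻¹)) g
      have e : g * ⁅x, g⁻¹ * w * g⁻¹⁻¹⁆ * g⁻¹ = ⁅g * x * g⁻¹, w⁆ := by
        simp only [commutatorElement_def]; group
      rwa [e] at h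
    have h := mem_centralizer_iff.mp (hle hu) (π y) (mem_map_of_mem π hy)
    rw [← QuotientGroup.eq_one_iff, ← QuotientGroup.mk'_apply, map_commutatorElement,
      commutatorElement_eq_one_iff_commute]
    exact h.symm
  have hcl2 : ⁅⁅B, B⁆, B⁆ = ⊥ := by
    rw [commutator_eq_bot_iff_le_centralizer]
    refine le_centralizer_iff.mp (hgenB fun g x hx => mem_centralizer_iff.mpr fun w hw => ?_)
    have hw' : g⁻¹ * w * g ∈ Z := by
      simpa using (hB'Z ((inferInstance : (⁅B, B⁆ : Subgroup G).Normal).conj_mem w hw g⁻¹)).2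
    have h := hZc _ hw' x hx.2
    calc w * (g * x * g⁻¹) = g * (g⁻¹ * w * g * x) * g⁻¹ := by group
      _ = _ := by rw [h]; group
  apply hbad
  by_cases hall : ∀ U ∈ F, B ≤ U
  · let C := centralizer (B : Set G)
    have hFC : ∀ U ∈ F, U ≤ C := fun U hU => by
      have := hFab U hU
      exact fun u hu => mem_centralizer_iff.mpr fun b hb =>
        congrArg Subtype.val (mul_comm' (⟨b, hall U hU hb⟩ : U) ⟨u, hu⟩)
    obtain ⟨R, hR⟩ := exists_sylow_inf_normal S C
    have htop := Sylow.normalizer_sup_eq_top R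
    rw [hR] at htop
    refine ⟨fun x hx g => ⟨hBn.conj_mem x hx.1 g, ?_⟩⟩
    obtain ⟨n, hn, c, hc', rfl⟩ := mem_sup_of_normal_right.mp (htop ▸ mem_top g)
    rw [show n * c * x * (n * c)⁻¹ = n * (c * x * c⁻¹) * n⁻¹ by group,
      show c * x * c⁻¹ = x by rw [← mem_centralizer_iff.mp hc' x hx.1, mul_inv_cancel_right]]
    refine hZn n (fun A hA => hconj A hA n ?_) x hx.2
    rintro _ ⟨a, ha, rfl⟩
    exact ((mem_normalizer_iff.mp hn a).mp ⟨hFS A hA ha, hFC A hA ha⟩).1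
  · exfalso
    push Not at hall
    obtain ⟨U, hU, hBU⟩ := hall
    obtain ⟨A, hA, -, hBnA, hBA⟩ := hrep B hBn hBS hcl2 ⟨U, hU, (hB'Z.trans inf_le_right).trans (hZF U hU), hBU⟩
    let C := centralizer (B : Set G)
    let D := (Cfsg.pCore p (G ⧸ C)).comap (QuotientGroup.mk' C)
    have hAD : A ≤ D := by
      intro a ha
      refine hst B hBp A hA a ha (eq_bot_iff.mpr ?_)
      have h1 : ⁅B, zpowers a⁆ ≤ A := commutator_le.mpr fun b hb v hv => by
        have hv' := zpowers_le.mpr ha hv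
        rw [commutatorElement_def]
        exact mul_mem ((mem_normalizer_iff.mp (hBA hb) v).mp hv') (inv_mem hv')
      have := hFab A hA
      exact (commutator_mono h1 (zpowers_le.mpr ha)).trans (commutator_le.mpr fun u hu v hv => by
        rw [mem_bot, commutatorElement_eq_one_iff_commute]
        exact congrArg Subtype.val (mul_comm' (⟨u, hu⟩ : A) ⟨v, hv⟩))
    obtain ⟨R, hR⟩ := exists_sylow_inf_normal S D
    have htop := Sylow.normalizer_sup_eq_top R
    rw [hR] at htop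
    refine hBnA (hgenB fun g x hx => ?_)
    obtain ⟨n, hn, d, hd, rfl⟩ := mem_sup_of_normal_right.mp (htop ▸ mem_top g)
    obtain ⟨y, hy, hdy⟩ : ∃ y ∈ Z, d * x * d⁻¹ = y := by
      obtain ⟨s, hs, hsd⟩ := Cfsg.Agent.Lib.Hall.pCore_le_sylow
        (S.mapSurjective (QuotientGroup.mk'_surjective C)) hd
      refine ⟨_, hSZ s hs x hx.2, ?_⟩
      have h1 := mem_centralizer_iff.mp (QuotientGroup.eq.mp hsd : s⁻¹ * d ∈ C) x hx.1
      calc d * x * d⁻¹ = s * (s⁻¹ * d * x) * (s⁻¹ * d)⁻¹ * s⁻¹ := by group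
        _ = _ := by rw [← h1]; group
    rw [show n * d * x * (n * d)⁻¹ = n * (d * x * d⁻¹) * n⁻¹ by group, hdy]
    have hA' : A.map (MulAut.conj n⁻¹).toMonoidHom ≤ (S : Subgroup G) := by
      rintro _ ⟨b, hb, rfl⟩
      simp only [MulEquiv.toMonoidHom_eq_coe, MonoidHom.coe_coe, MulAut.conj_apply, inv_inv]
      exact ((mem_normalizer_iff''.mp hn b).mp ⟨hFS A hA hb, hAD hb⟩).1
    obtain ⟨a, ha, hay⟩ := hZF _ (hconj A hA n⁻¹ hA') hy
    rw [← hay]
    simpa [mul_assoc] using ha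

/-- `zj_normal` for a family of subgroups of the Sylow subgroup, intrinsically given. -/
theorem zj_normal_subtype_of_quad [Finite G] [Fact p.Prime] (S : Sylow p G) (F : Set (Subgroup (S : Subgroup G)))
    (Z : Subgroup (S : Subgroup G)) (hF : F.Nonempty) (hFab : ∀ A ∈ F, IsMulCommutative A)
    (hinv : ∀ A ∈ F, ∀ (g : G) (B : Subgroup (S : Subgroup G)),
      (A.map (S : Subgroup G).subtype).map (MulAut.conj g).toMonoidHom = B.map (S : Subgroup G).subtype →
      B ∈ F)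
    (hrep : ∀ (B : Subgroup (S : Subgroup G)) [B.Normal], ⁅⁅B, B⁆, B⁆ = ⊥ →
      (∃ U ∈ F, ⁅B, B⁆ ≤ U ∧ ¬ B ≤ U) →
      ∃ A ∈ F, ⁅B, B⁆ ≤ A ∧ ¬ B ≤ A ∧ B ≤ normalizer (A : Set (S : Subgroup G)))
    (hZF : ∀ A ∈ F, Z ≤ A)
    (hZn : ∀ n : G, (∀ A ∈ F, ∃ B ∈ F,
        (A.map (S : Subgroup G).subtype).map (MulAut.conj n).toMonoidHom = B.map (S : Subgroup G).subtype) →
      ∀ x ∈ Z, n * (x : G) * n⁻¹ ∈ Z.map (S : Subgroup G).subtype)
    (hc : centralizer (Cfsg.pCore p G : Set G) ≤ Cfsg.pCore p G)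
    (hst : ∀ (P : Subgroup G) [P.Normal], IsPGroup p P → ∀ A ∈ F, ∀ a ∈ A,
      ⁅⁅P, zpowers (a : G)⁆, zpowers (a : G)⁆ = ⊥ →
      (QuotientGroup.mk (a : G) : G ⧸ centralizer (P : Set G)) ∈ Cfsg.pCore p (G ⧸ centralizer (P : Set G))) :
    (Z.map (S : Subgroup G).subtype).Normal := by
  set ι := (S : Subgroup G).subtype with hι
  have hinj : Function.Injective ι := (S : Subgroup G).subtype_injective
  refine zj_normal_of_quad S ((fun A => A.map ι) '' F) _ (hF.image _) ?_ ?_ ?_ ?_ ?_ ?_ hc (fun P hP hPp => ?_)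
  · rintro _ ⟨A, -, rfl⟩; exact map_subtype_le A
  · rintro _ ⟨A, hA, rfl⟩
    have := hFab A hA
    infer_instance
  · rintro _ ⟨A, hA, rfl⟩ g hg
    have he : ((((A.map ι).map (MulAut.conj g).toMonoidHom).subgroupOf S).map ι) =
        (A.map ι).map (MulAut.conj g).toMonoidHom := by
      rw [hι, subgroupOf_map_subtype]; exact inf_eq_left.mpr hg
    exact ⟨_, hinv A hA g _ he.symm, he⟩
  · rintro B hBn hBS hcl ⟨_, ⟨U, hU, rfl⟩, hBU, hBU'⟩
    have hB : (B.subgroupOf S).map ι = B := by rw [hι, subgroupOf_map_subtype, inf_eq_left.mpr hBS]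
    rw [← hB] at hcl hBU hBU'
    rw [← map_commutator] at hcl hBU
    rw [← map_commutator, map_eq_bot_iff_of_injective _ hinj] at hcl
    rw [map_le_map_iff_of_injective hinj] at hBU hBU'
    obtain ⟨A, hA, h1, h2, h3⟩ := hrep (B.subgroupOf S) hcl ⟨U, hU, hBU, hBU'⟩
    refine ⟨A.map ι, ⟨A, hA, rfl⟩, ?_, ?_, ?_⟩ <;> rw [← hB]
    · rw [← map_commutator]; exact map_mono h1
    · rw [map_le_map_iff_of_injective hinj]; exact h2
    · exact (map_mono h3).trans (le_normalizer_map ι)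
  · rintro _ ⟨A, hA, rfl⟩; exact map_mono (hZF A hA)
  · rintro n hn _ ⟨x, hx, rfl⟩
    exact hZn n (fun A hA => by
      obtain ⟨B, hB, hBe⟩ := hn _ ⟨A, hA, rfl⟩
      exact ⟨B, hB, hBe.symm⟩) x hx
  · rintro _ ⟨A, hA, rfl⟩ _ ⟨a, ha, rfl⟩ hq
    exact hst P hPp A hA a ha hq

/-- `Z(J(S))` is normal unless an element of some member of `𝒜(S)` shows that `G` is not stable. -/
theorem centerThompsonAOf_normal [Finite G] [Fact p.Prime] (hp : p ≠ 2) (S : Sylow p G)
    (hc : centralizer (Cfsg.pCore p G : Set G) ≤ Cfsg.pCore p G)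
    (hst : ∀ (P : Subgroup G) [P.Normal], IsPGroup p P →
      ∀ A ∈ Cfsg.maxAbelianSubgroups ↥(S : Subgroup G), ∀ a ∈ A,
      ⁅⁅P, zpowers (a : G)⁆, zpowers (a : G)⁆ = ⊥ →
      (QuotientGroup.mk (a : G) : G ⧸ centralizer (P : Set G)) ∈ Cfsg.pCore p (G ⧸ centralizer (P : Set G))) :
    (Cfsg.centerThompsonAOf (S : Subgroup G)).Normal := by
  let J := Cfsg.thompsonSubgroupA ↥(S : Subgroup G)
  have hZ : Cfsg.centerThompsonAOf (S : Subgroup G) =
      (J ⊓ centralizer (J : Set ↥(S : Subgroup G))).map (S : Subgroup G).subtype := by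
    refine le_antisymm ?_ ?_
    · rintro _ ⟨⟨x, hx, rfl⟩, hxc⟩
      exact ⟨x, ⟨hx, mem_centralizer_iff.mpr fun y hy => Subtype.ext
        (mem_centralizer_iff.mp hxc _ (mem_map_of_mem _ hy))⟩, rfl⟩
    · rintro _ ⟨x, ⟨hx, hxc⟩, rfl⟩
      refine ⟨mem_map_of_mem _ hx, mem_centralizer_iff.mpr ?_⟩
      rintro _ ⟨y, hy, rfl⟩
      exact congrArg Subtype.val (mem_centralizer_iff.mp hxc y hy)
  rw [hZ]
  refine zj_normal_subtype_of_quad S (Cfsg.maxAbelianSubgroups ↥(S : Subgroup G)) _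
    Lib.Thompson.exists_maxAbelian (fun A hA => hA.1) ?_ ?_ ?_ ?_ hc (fun P hP hPp A hA a ha hq => hst P hPp A hA a ha hq)
  · intro A hA g B hAB
    have := hA.1
    constructor
    · have h : IsMulCommutative (B.map (S : Subgroup G).subtype) := by rw [← hAB]; infer_instance
      refine ⟨⟨fun x y => Subtype.ext ((S : Subgroup G).subtype_injective ?_)⟩⟩
      simp only [Subgroup.coe_mul, map_mul]
      exact congrArg Subtype.val (mul_comm'
        (⟨_, mem_map_of_mem (S : Subgroup G).subtype x.2⟩ : B.map (S : Subgroup G).subtype)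
        ⟨_, mem_map_of_mem (S : Subgroup G).subtype y.2⟩)
    · intro C hC
      rw [← card_map_of_injective (K := B) (S : Subgroup G).subtype_injective, ← hAB,
        card_map_of_injective (MulAut.conj g).injective, card_subtype]
      exact hA.2 C hC
  · intro B _ hcl hU
    have h := S0651.result S.2 hp (⊤ : Subgroup ↥(S : Subgroup G)) B hcl
    rw [Lib.Thompson.image_top_eq (fun β _ => Cfsg.maxAbelianSubgroups β)
      (fun e _ hA => Lib.Thompson.map_mem_maxAbelian e hA)] at h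
    exact h hU
  · rintro A hA x ⟨hx, hxc⟩
    have := hA.1
    have hE : IsMulCommutative (closure ((A : Set ↥(S : Subgroup G)) ∪ {x})) := by
      refine isMulCommutative_closure ?_
      have hxA : ∀ a ∈ A, a * x = x * a := fun a ha => mem_centralizer_iff.mp hxc a (le_sSup hA ha)
      rintro u (hu | hu) v (hv | hv)
      · exact congrArg Subtype.val (mul_comm' (⟨u, hu⟩ : A) ⟨v, hv⟩)
      · rw [Set.mem_singleton_iff.mp hv]; exact hxA u hu
      · rw [Set.mem_singleton_iff.mp hu]; exact (hxA v hv).symm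
      · rw [Set.mem_singleton_iff.mp hu, Set.mem_singleton_iff.mp hv]
    rw [eq_of_le_of_card_ge (fun a ha => subset_closure (Or.inl ha) :
      A ≤ closure ((A : Set ↥(S : Subgroup G)) ∪ {x})) (hA.2 _ hE)]
    exact subset_closure (Or.inr rfl)
  · rintro n hn x ⟨hx, hxc⟩
    have hle : (J.map (S : Subgroup G).subtype).map (MulAut.conj n).toMonoidHom ≤
        J.map (S : Subgroup G).subtype := by
      rw [map_le_iff_le_comap, map_le_iff_le_comap]
      refine sSup_le fun A hA => ?_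
      obtain ⟨B, hB, hAB⟩ := hn A hA
      rw [← map_le_iff_le_comap, ← map_le_iff_le_comap, hAB]
      exact map_mono (le_sSup hB)
    have heq := eq_of_le_of_card_ge hle (card_map_of_injective (MulAut.conj n).injective).ge
    obtain ⟨z, hz, hzx⟩ := hle ⟨x, mem_map_of_mem _ hx, rfl⟩
    refine ⟨z, ⟨hz, mem_centralizer_iff.mpr fun y hy => Subtype.ext ?_⟩, hzx⟩
    have hy' := mem_map_of_mem (S : Subgroup G).subtype hy
    rw [← heq] at hy'
    obtain ⟨_, ⟨w, hw, rfl⟩, hwy⟩ := hy'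
    show (y : G) * (z : G) = z * y
    change (z : G) = n * (x : G) * n⁻¹ at hzx
    change n * (w : G) * n⁻¹ = (y : G) at hwy
    have h : (w : G) * x = x * w := congrArg Subtype.val (mem_centralizer_iff.mp hxc w hw)
    rw [hzx, ← hwy]
    calc n * (w : G) * n⁻¹ * (n * x * n⁻¹) = n * (w * x) * n⁻¹ := by group
      _ = n * (x * w) * n⁻¹ := by rw [h]
      _ = _ := by group


end Cfsg.Agent.Lib.InvZJ
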