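import Cfsg.Agent.Lib.InvZJ.Quadratic
import Cfsg.Agent.Lib.InvZJ.Glauberman
import Cfsg.Agent.Lib.Components.PComponent

/-!
A group with a `q`-inversion, `q` odd, has one in `N(Z(J(T)))`, `T` a Sylow `q`-subgroup.
-/

set_option autoImplicit false
set_option linter.style.haveILetI false

namespace Cfsg.Agent.Lib.InvZJ

open Subgroup
open scoped commutatorElement

universe u

variable {G : Type u} [Group G] {q : ℕ}

/-- `A` is an abelian subgroup of `P` of largest order. -/
def MaxAb (P A : Subgroup G) : Prop :=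
  A ≤ P ∧ IsMulCommutative ↥A ∧ ∀ B : Subgroup G, B ≤ P → IsMulCommutative ↥B → Nat.card ↥B ≤ Nat.card ↥A

lemma maxAb_map {P : Subgroup G} {A : Subgroup ↥P} (hA : A ∈ Cfsg.maxAbelianSubgroups ↥P) :
    MaxAb P (A.map P.subtype) := by
  have := hA.1
  refine ⟨map_subtype_le A, inferInstance, fun B hB hBc => ?_⟩
  rw [card_map_of_injective P.subtype_injective, ← Nat.card_congr (subgroupOfEquivOfLe hB).toEquiv]
  exact hA.2 _ (IsMulCommutative.of_setLike_mul_comm fun a ha b hb => Subtype.ext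
    (congrArg Subtype.val (hBc.1.comm ⟨(a : G), mem_subgroupOf.1 ha⟩ ⟨(b : G), mem_subgroupOf.1 hb⟩) :))

lemma MaxAb.le_thompson {P A : Subgroup G} (h : MaxAb P A) : A ≤ Cfsg.thompsonSubgroupAOf P := by
  have hmem : A.subgroupOf P ∈ Cfsg.maxAbelianSubgroups ↥P := by
    refine ⟨IsMulCommutative.of_setLike_mul_comm fun a ha b hb => Subtype.ext
      (congrArg Subtype.val (h.2.1.1.comm ⟨(a : G), mem_subgroupOf.1 ha⟩ ⟨(b : G), mem_subgroupOf.1 hb⟩) :),
      fun B hB => ?_⟩
    rw [Nat.card_congr (subgroupOfEquivOfLe h.1).toEquiv, ← card_map_of_injective P.subtype_injective (K := B)]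
    haveI := hB
    exact h.2.2 _ (map_subtype_le B) inferInstance
  intro x hx
  exact ⟨⟨x, h.1 hx⟩, le_sSup hmem (mem_subgroupOf.2 hx), rfl⟩

lemma thompson_le {P K : Subgroup G} (h : ∀ A, MaxAb P A → A ≤ K) : Cfsg.thompsonSubgroupAOf P ≤ K := by
  rw [Cfsg.thompsonSubgroupAOf, map_le_iff_le_comap]
  exact sSup_le fun A hA => map_le_iff_le_comap.1 (h _ (maxAb_map hA))

lemma MaxAb.mem [Finite G] {P A : Subgroup G} (h : MaxAb P A) {x : G} (hxP : x ∈ P)
    (hxA : ∀ a ∈ A, a * x = x * a) : x ∈ A := by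
  have hE : IsMulCommutative ↥(closure ((A : Set G) ∪ {x})) := by
    refine isMulCommutative_closure ?_
    rintro u (hu | hu) v (hv | hv)
    · exact congrArg Subtype.val (h.2.1.1.comm ⟨u, hu⟩ ⟨v, hv⟩)
    · rw [Set.mem_singleton_iff.mp hv]; exact hxA u hu
    · rw [Set.mem_singleton_iff.mp hu]; exact (hxA v hv).symm
    · rw [Set.mem_singleton_iff.mp hu, Set.mem_singleton_iff.mp hv]
  rw [eq_of_le_of_card_ge (fun a ha => subset_closure (Or.inl ha) : A ≤ closure ((A : Set G) ∪ {x}))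
    (h.2.2 _ ((closure_le _).2 (Set.union_subset h.1 (Set.singleton_subset_iff.2 hxP))) hE)]
  exact subset_closure (Or.inr rfl)

lemma MaxAb.zj_le [Finite G] {P A : Subgroup G} (h : MaxAb P A) : Cfsg.centerThompsonAOf P ≤ A := fun x hx =>
  h.mem (map_subtype_le _ hx.1) fun a ha => mem_centralizer_iff.1 hx.2 a (h.le_thompson ha)

lemma center_le_zj [Finite G] {P : Subgroup G} {x : G} (hx : x ∈ P) (hc : ∀ y ∈ P, y * x = x * y) :
    x ∈ Cfsg.centerThompsonAOf P := by
  obtain ⟨A, hA⟩ := Thompson.exists_maxAbelian (G := ↥P)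
  have hA' := maxAb_map hA
  exact ⟨hA'.le_thompson (hA'.mem hx fun a ha => hc a (hA'.1 ha)),
    mem_centralizer_iff.2 fun y hy => hc y (map_subtype_le _ hy)⟩

lemma normalizer_le_normalizer_zj [Finite G] (P : Subgroup G) :
    normalizer (P : Set G) ≤ normalizer (Cfsg.centerThompsonAOf P : Set G) := by
  intro g hg
  refine Thompson.mem_normalizer_of_forall_conj fun x hx => ?_
  have h := mem_map_of_mem (MulAut.conj g).toMonoidHom hx
  rw [Thompson.map_centerThompsonAOf _ P fun a _ b _ e => (MulAut.conj g).injective e,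
    Cfsg.Agent.Lib.Components.map_conj_eq_of_mem_normalizer hg] at h
  exact h

variable [Finite G] [hq' : Fact q.Prime]

/-- `N(Z(J(T)))` for two Sylow subgroups differ by conjugation. -/
lemma hasInv_zj_conj (T T' : Sylow q G)
    (h : HasInv q (normalizer (Cfsg.centerThompsonAOf (T : Subgroup G) : Set G))) :
    HasInv q (normalizer (Cfsg.centerThompsonAOf (T' : Subgroup G) : Set G)) := by
  obtain ⟨g, rfl⟩ := MulAction.exists_smul_eq G T T'
  refine (h.map (MulAut.conj g).toMonoidHom (MulAut.conj g).injective).mono ?_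
  refine (le_normalizer_map _).trans ?_
  rw [Thompson.map_centerThompsonAOf _ _ fun a _ b _ e => (MulAut.conj g).injective e]
  exact le_of_eq rfl

lemma zj_ne_bot {S : Subgroup G} (hS : IsPGroup q ↥S) (h : S ≠ ⊥) : Cfsg.centerThompsonAOf S ≠ ⊥ := by
  haveI : Nontrivial ↥S := (nontrivial_iff_ne_bot _).2 h
  haveI := hS.center_nontrivial
  obtain ⟨⟨z, hz⟩, hz1⟩ := exists_ne (1 : center ↥S)
  intro h0
  have := center_le_zj z.2 fun y hy => congrArg Subtype.val (mem_center_iff.1 hz ⟨y, hy⟩)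
  rw [h0, mem_bot] at this
  exact hz1 (Subtype.ext (Subtype.ext this))

omit [Finite G] in
lemma le_pCore_of_normal {N : Subgroup G} [N.Normal] (h : IsPGroup q ↥N) : N ≤ Cfsg.pCore q G :=
  Components.le_pCore h

/-- The statement, for induction. -/
def Concl (q : ℕ) (G : Type u) [Group G] : Prop :=
  HasInv q (⊤ : Subgroup G) →
    ∀ T : Sylow q G, HasInv q (normalizer (Cfsg.centerThompsonAOf (T : Subgroup G) : Set G))

section induction

variable (ih : ∀ (H : Type u) [Group H] [Finite H], Nat.card H < Nat.card G → Concl q H)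

include ih

/-- Induction in a proper subgroup. -/
lemma descend {M : Subgroup G} (hM : M ≠ ⊤) (h : HasInv q M) (S : Sylow q ↥M) :
    HasInv q (M ⊓ normalizer (Cfsg.centerThompsonAOf ((S : Subgroup ↥M).map M.subtype) : Set G)) := by
  have hlt : Nat.card ↥M < Nat.card G :=
    lt_of_le_of_ne (card_le_card_group M) fun e => hM (eq_top_of_card_eq M e)
  refine ((ih ↥M hlt (hasInv_top_of_hasInv h) S).map M.subtype M.subtype_injective).mono
    (le_inf (map_subtype_le _) ?_)
  rw [← Thompson.map_centerThompsonAOf M.subtype _ fun a _ b _ e => M.subtype_injective e]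
  exact le_normalizer_map _

/-- A proper subgroup with an inversion containing a Sylow subgroup. -/
lemma descend_sylow {M : Subgroup G} (hM : M ≠ ⊤) (h : HasInv q M) (T : Sylow q G) (hTM : (T : Subgroup G) ≤ M) :
    HasInv q (normalizer (Cfsg.centerThompsonAOf (T : Subgroup G) : Set G)) := by
  have hd := (descend ih hM h (T.subtype hTM)).mono inf_le_right
  rwa [Sylow.coe_subtype, subgroupOf_map_subtype, inf_eq_left.2 hTM] at hd

/-- An inversion in a local subgroup: either we are done or `O_q(G) ≠ 1`. -/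
lemma pCore_ne_bot_or (hq : q ≠ 2) (h : HasInv q (⊤ : Subgroup G)) (T : Sylow q G) :
    HasInv q (normalizer (Cfsg.centerThompsonAOf (T : Subgroup G) : Set G)) ∨ Cfsg.pCore q G ≠ ⊥ := by
  classical
  obtain ⟨x, g, -, -, hx1, ⟨n, hx⟩, hgx⟩ := h.exists_inverted
  let F := {R : Subgroup G | IsPGroup q ↥R ∧ R ≠ ⊥ ∧ HasInv q (normalizer (R : Set G))}
  have hF : F.Nonempty := by
    refine ⟨zpowers x, ?_, zpowers_ne_bot.2 hx1, hasInv_of_inverted hq (le_normalizer (mem_zpowers x))
      (Thompson.mem_normalizer_of_forall_conj fun y hy => ?_) hx1 hx hgx⟩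
    · obtain ⟨j, -, hj⟩ := (Nat.dvd_prime_pow hq'.out).1 (orderOf_dvd_of_pow_eq_one hx)
      exact IsPGroup.of_card (by rw [Nat.card_zpowers, hj])
    · obtain ⟨i, rfl⟩ := mem_zpowers_iff.1 hy
      rw [← conj_zpow, hgx, inv_zpow]
      exact inv_mem (zpow_mem (mem_zpowers x) i)
  obtain ⟨R, ⟨hRp, hR1, hRi⟩, hmax⟩ := F.toFinite.exists_maximalFor
    (fun R : Subgroup G => (Nat.card ↥(normalizer (R : Set G))).factorization q) F hF
  by_cases htop : normalizer (R : Set G) = ⊤
  · right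
    haveI : R.Normal := normalizer_eq_top_iff.1 htop
    exact fun h0 => hR1 (le_bot_iff.1 (h0 ▸ le_pCore_of_normal hRp))
  left
  obtain ⟨S, hRS⟩ := (hRp.comap_subtype (K := normalizer (R : Set G))).exists_le_sylow
  set SG := (S : Subgroup ↥(normalizer (R : Set G))).map (normalizer (R : Set G)).subtype with hSG
  have hSGp : IsPGroup q ↥SG := S.2.map _
  obtain ⟨T', hT'⟩ := hSGp.exists_le_sylow
  have hd := (descend ih htop hRi S).mono inf_le_right
  have hRle : R ≤ SG := fun r hr => ⟨⟨r, le_normalizer hr⟩, hRS (mem_subgroupOf.2 hr), rfl⟩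
  by_cases heq : SG = (T' : Subgroup G)
  · exact hasInv_zj_conj T' T (heq ▸ hd)
  exfalso
  have hSG1 : SG ≠ ⊥ := fun h0 => hR1 (le_bot_iff.1 (h0 ▸ hRle))
  have hR' : Cfsg.centerThompsonAOf SG ∈ F := ⟨hSGp.to_le (inf_le_left.trans (map_subtype_le _)),
    zj_ne_bot hSGp hSG1, hd⟩
  -- the normalizer in `T'` is larger
  haveI : Group.IsNilpotent ↥(T' : Subgroup G) := T'.isPGroup'.isNilpotent
  have hlt : SG < (T' : Subgroup G) ⊓ normalizer (SG : Set G) := by
    refine lt_of_le_of_ne (le_inf hT' le_normalizer) fun e => ?_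
    have hne : SG.subgroupOf (T' : Subgroup G) < ⊤ := by
      rw [lt_top_iff_ne_top, ne_eq, subgroupOf_eq_top]
      exact fun hh => heq (le_antisymm hT' hh)
    have := Group.normalizerCondition_of_isNilpotent (SG.subgroupOf (T' : Subgroup G)) hne
    obtain ⟨w, hw, hwS⟩ := SetLike.exists_of_lt this
    refine hwS (mem_subgroupOf.2 ?_)
    rw [e]
    refine ⟨w.2, Thompson.mem_normalizer_of_forall_conj fun s hs => ?_⟩
    exact mem_subgroupOf.1 ((mem_normalizer_iff.1 hw ⟨s, hT' hs⟩).1 (mem_subgroupOf.2 hs))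
  have hbig : ((Nat.card ↥(normalizer (R : Set G))).factorization q) <
      (Nat.card ↥(normalizer (Cfsg.centerThompsonAOf SG : Set G))).factorization q := by
    set W := (T' : Subgroup G) ⊓ normalizer (SG : Set G) with hW
    obtain ⟨i, hi⟩ := IsPGroup.iff_card.1 (T'.isPGroup'.to_le (inf_le_left : W ≤ _))
    have hdvd := card_dvd_of_le ((inf_le_right : W ≤ _).trans (normalizer_le_normalizer_zj SG))
    rw [hi] at hdvd
    refine lt_of_lt_of_le ?_ ((hq'.out.pow_dvd_iff_le_factorization Nat.card_pos.ne').1 hdvd)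
    have hcS : Nat.card ↥SG = q ^ (Nat.card ↥(normalizer (R : Set G))).factorization q := by
      rw [hSG, card_map_of_injective (subtype_injective _)]; exact S.card_eq_multiplicity
    have : Nat.card ↥SG < Nat.card ↥W :=
      lt_of_le_of_ne (card_le_of_le hlt.le) fun e => hlt.ne (eq_of_le_of_card_ge hlt.le e.ge)
    rw [hcS, hi] at this
    exact (Nat.pow_lt_pow_iff_right hq'.out.one_lt).1 this
  exact absurd (hmax hR' hbig.le) (not_le.2 hbig)

/-- An inversion in `G / O_q(G)` suffices. -/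
lemma of_quotient (hq : q ≠ 2) (hQ : Cfsg.pCore q G ≠ ⊥) (h : HasInv q (⊤ : Subgroup (G ⧸ Cfsg.pCore q G)))
    (T : Sylow q G) : HasInv q (normalizer (Cfsg.centerThompsonAOf (T : Subgroup G) : Set G)) := by
  set π := QuotientGroup.mk' (Cfsg.pCore q G) with hπ
  have hπs : Function.Surjective π := QuotientGroup.mk'_surjective _
  let Tb := T.mapSurjective hπs
  have hcard : Nat.card (G ⧸ Cfsg.pCore q G) < Nat.card G := by
    rw [card_eq_card_quotient_mul_card_subgroup (Cfsg.pCore q G)]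
    exact lt_mul_of_one_lt_right Nat.card_pos ((one_lt_card_iff_ne_bot _).2 hQ)
  have hb := ih (G ⧸ Cfsg.pCore q G) hcard h Tb
  set M := (normalizer (Cfsg.centerThompsonAOf (Tb : Subgroup (G ⧸ Cfsg.pCore q G)) : Set (G ⧸ Cfsg.pCore q G))).comap π
    with hM
  have hTM : (T : Subgroup G) ≤ M := fun t ht => by
    refine normalizer_le_normalizer_zj _ (le_normalizer ?_)
    rw [Sylow.coe_mapSurjective]; exact mem_map_of_mem π ht
  have hMi : HasInv q M := by
    refine hasInv_of_hasInv_top (hasInv_top_of_surjective hq (π.subgroupComap _) ?_ (hasInv_top_of_hasInv hb))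
    exact MonoidHom.subgroupComap_surjective_of_surjective π _ hπs
  by_cases hMtop : M = ⊤
  · exfalso
    set Zb := Cfsg.centerThompsonAOf (Tb : Subgroup (G ⧸ Cfsg.pCore q G)) with hZb
    haveI : Zb.Normal := normalizer_eq_top_iff.1 (by
      rw [eq_top_iff]
      intro y _
      obtain ⟨g, rfl⟩ := hπs y
      exact (hMtop.symm ▸ mem_top g : g ∈ M))
    have hZp : IsPGroup q ↥Zb := Tb.isPGroup'.to_le (inf_le_left.trans (map_subtype_le _))
    have hker : IsPGroup q ↥(Zb.comap π) := hZp.comap_of_ker_isPGroup π (by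
      rw [QuotientGroup.ker_mk']; exact Components.pCore_isPGroup q)
    have hle : Zb.comap π ≤ Cfsg.pCore q G := le_pCore_of_normal hker
    have hZ0 : Zb = ⊥ := by
      rw [Subgroup.eq_bot_iff_forall]
      intro z hz
      obtain ⟨g, rfl⟩ := hπs z
      exact (QuotientGroup.eq_one_iff g).2 (hle hz)
    have hT0 : (Tb : Subgroup (G ⧸ Cfsg.pCore q G)) = ⊥ := by
      by_contra hne
      exact zj_ne_bot Tb.isPGroup' hne hZ0
    obtain ⟨x, -, -, -, hx1, ⟨n, hx⟩, -⟩ := h.exists_inverted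
    obtain ⟨j, -, hj⟩ := (Nat.dvd_prime_pow hq'.out).1 (orderOf_dvd_of_pow_eq_one hx)
    obtain ⟨T2, hT2⟩ := (IsPGroup.of_card (p := q) (n := j) (G := ↥(zpowers x))
      (by rw [Nat.card_zpowers, hj])).exists_le_sylow
    have := card_le_of_le hT2
    rw [T2.card_eq_multiplicity, ← Tb.card_eq_multiplicity, hT0, card_bot, Nat.card_zpowers] at this
    exact hx1 (orderOf_eq_one_iff.1 (le_antisymm this (orderOf_pos x)))
  · exact descend_sylow ih hMtop hMi T hTM

/-- An inversion in `G / O_{q'}(G)` suffices. -/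
lemma of_quotient' (hq : q ≠ 2) (hW : Cfsg.pPrimeCore q G ≠ ⊥)
    (h : HasInv q (⊤ : Subgroup (G ⧸ Cfsg.pPrimeCore q G)))
    (T : Sylow q G) : HasInv q (normalizer (Cfsg.centerThompsonAOf (T : Subgroup G) : Set G)) := by
  set W := Cfsg.pPrimeCore q G with hWdef
  set π := QuotientGroup.mk' W with hπ
  have hπs : Function.Surjective π := QuotientGroup.mk'_surjective _
  let Tb := T.mapSurjective hπs
  have hcard : Nat.card (G ⧸ W) < Nat.card G := by
    rw [card_eq_card_quotient_mul_card_subgroup W]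
    exact lt_mul_of_one_lt_right Nat.card_pos ((one_lt_card_iff_ne_bot _).2 hW)
  have hb := ih (G ⧸ W) hcard h Tb
  set Z := Cfsg.centerThompsonAOf (T : Subgroup G) with hZ
  have hZT : Z ≤ (T : Subgroup G) := inf_le_left.trans (map_subtype_le _)
  have hinj : ∀ x ∈ (T : Subgroup G), ∀ y ∈ (T : Subgroup G), π x = π y → x = y := fun x hx y hy e => by
    have hm : x⁻¹ * y ∈ (T : Subgroup G) ⊓ W := ⟨Subgroup.mul_mem _ (Subgroup.inv_mem _ hx) hy, QuotientGroup.eq.1 e⟩
    rw [Components.inf_eq_bot_of_pGroup_coprime T.isPGroup' (Components.pPrimeCore_coprime q), mem_bot,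
      inv_mul_eq_one] at hm
    exact hm
  have hzm : Cfsg.centerThompsonAOf (Tb : Subgroup (G ⧸ W)) = Z.map π := by
    rw [Thompson.map_centerThompsonAOf π _ hinj, Sylow.coe_mapSurjective]
  rw [hzm, ← Components.map_normalizer_pGroup (T.isPGroup'.to_le hZT) (Components.pPrimeCore_coprime q)] at hb
  exact hasInv_of_hasInv_top (hasInv_top_of_surjective hq (π.subgroupMap (normalizer (Z : Set G)))
    (π.subgroupMap_surjective _) (hasInv_top_of_hasInv hb))

/-- The reduced case. -/
lemma of_self_centralizing (hq : q ≠ 2) (h : HasInv q (⊤ : Subgroup G))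
    (hc : centralizer (Cfsg.pCore q G : Set G) ≤ Cfsg.pCore q G) (T : Sylow q G) :
    HasInv q (normalizer (Cfsg.centerThompsonAOf (T : Subgroup G) : Set G)) := by
  classical
  by_cases hn : (Cfsg.centerThompsonAOf (T : Subgroup G)).Normal
  · haveI := hn
    rwa [normalizer_eq_top (H := Cfsg.centerThompsonAOf (T : Subgroup G))]
  obtain ⟨P, hPn, hP, A, hA, a, ha, hquad, hna⟩ : ∃ (P : Subgroup G) (_ : P.Normal), IsPGroup q ↥P ∧
      ∃ A ∈ Cfsg.maxAbelianSubgroups ↥(T : Subgroup G), ∃ a ∈ A,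
      ⁅⁅P, zpowers (a : G)⁆, zpowers (a : G)⁆ = ⊥ ∧
      (QuotientGroup.mk (a : G) : G ⧸ centralizer (P : Set G)) ∉ Cfsg.pCore q (G ⧸ centralizer (P : Set G)) := by
    by_contra hno
    refine hn (centerThompsonAOf_normal hq T hc fun P hPn hP A hA a ha hqd => ?_)
    by_contra hcon
    exact hno ⟨P, hPn, hP, A, hA, a, ha, hqd, hcon⟩
  haveI := hPn
  obtain ⟨h0, M, hh0, hh0k, hh0c, hMtop, hh0M, hPM, hMc⟩ := exists_two_element_of_not_stable hq hP hquad hna
  set AG := A.map (T : Subgroup G).subtype with hAG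
  have hAm : MaxAb (T : Subgroup G) AG := maxAb_map hA
  have haA : (a : G) ∈ AG := mem_map_of_mem _ ha
  have hPT : P ≤ (T : Subgroup G) := (le_pCore_of_normal hP).trans (Hall.pCore_le_sylow T)
  set K := normalClosure ({(a : G)} : Set G) ⊔ (T : Subgroup G) with hK
  by_cases hKtop : K = ⊤
  swap
  · refine descend_sylow ih hKtop ⟨h0, P, mem_sup_left hh0, hh0k, hP, hPT.trans le_sup_right, ?_, hh0c⟩ T
      le_sup_right
    rw [normalizer_eq_top]; exact mem_top _
  let F := {M : Subgroup G | M ≠ ⊤ ∧ AG ≤ M ∧ HasInv q M}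
  have hFne : F.Nonempty := ⟨M, hMtop,
    fun c hc' => hMc c (congrArg Subtype.val (hAm.2.1.1.comm ⟨c, hc'⟩ ⟨(a : G), haA⟩)),
    ⟨h0, P, hh0M, hh0k, hP, hPM, by rw [normalizer_eq_top]; exact mem_top _, hh0c⟩⟩
  obtain ⟨M₁, ⟨hM₁, hAM₁, hM₁i⟩, hmax⟩ := F.toFinite.exists_maximalFor
    (fun R : Subgroup G => (Nat.card ↥R).factorization q) F hFne
  obtain ⟨S, hAS⟩ := ((T.isPGroup'.to_le hAm.1).comap_subtype (K := M₁)).exists_le_sylow
  set SG := (S : Subgroup ↥M₁).map M₁.subtype with hSG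
  have hSGp : IsPGroup q ↥SG := S.2.map _
  have hASG : AG ≤ SG := fun c hc' => ⟨⟨c, hAM₁ hc'⟩, hAS (mem_subgroupOf.2 hc'), rfl⟩
  obtain ⟨T', hT'⟩ := hSGp.exists_le_sylow
  have hd := (descend ih hM₁ hM₁i S).mono inf_le_right
  by_cases heq : SG = (T' : Subgroup G)
  · exact hasInv_zj_conj T' T (heq ▸ hd)
  by_cases hN1 : normalizer (Cfsg.centerThompsonAOf SG : Set G) = ⊤
  swap
  · exfalso
    have hmem : normalizer (Cfsg.centerThompsonAOf SG : Set G) ∈ F :=
      ⟨hN1, hASG.trans (le_normalizer.trans (normalizer_le_normalizer_zj SG)), hd⟩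
    haveI : Group.IsNilpotent ↥(T' : Subgroup G) := T'.isPGroup'.isNilpotent
    have hlt : SG < (T' : Subgroup G) ⊓ normalizer (SG : Set G) := by
      refine lt_of_le_of_ne (le_inf hT' le_normalizer) fun e => ?_
      have hne : SG.subgroupOf (T' : Subgroup G) < ⊤ := by
        rw [lt_top_iff_ne_top, ne_eq, subgroupOf_eq_top]
        exact fun hh => heq (le_antisymm hT' hh)
      obtain ⟨w, hw, hwS⟩ := SetLike.exists_of_lt
        (Group.normalizerCondition_of_isNilpotent (SG.subgroupOf (T' : Subgroup G)) hne)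
      refine hwS (mem_subgroupOf.2 ?_)
      rw [e]
      refine ⟨w.2, Thompson.mem_normalizer_of_forall_conj fun s hs => ?_⟩
      exact mem_subgroupOf.1 ((mem_normalizer_iff.1 hw ⟨s, hT' hs⟩).1 (mem_subgroupOf.2 hs))
    set W := (T' : Subgroup G) ⊓ normalizer (SG : Set G) with hW
    obtain ⟨i, hi⟩ := IsPGroup.iff_card.1 (T'.isPGroup'.to_le (inf_le_left : W ≤ _))
    have hdvd := card_dvd_of_le ((inf_le_right : W ≤ _).trans (normalizer_le_normalizer_zj SG))
    rw [hi] at hdvd
    have hbig : (Nat.card ↥M₁).factorization q <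
        (Nat.card ↥(normalizer (Cfsg.centerThompsonAOf SG : Set G))).factorization q := by
      refine lt_of_lt_of_le ?_ ((hq'.out.pow_dvd_iff_le_factorization Nat.card_pos.ne').1 hdvd)
      have hcS : Nat.card ↥SG = q ^ (Nat.card ↥M₁).factorization q := by
        rw [hSG, card_map_of_injective (subtype_injective _)]; exact S.card_eq_multiplicity
      have : Nat.card ↥SG < Nat.card ↥W :=
        lt_of_le_of_ne (card_le_of_le hlt.le) fun e => hlt.ne (eq_of_le_of_card_ge hlt.le e.ge)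
      rw [hcS, hi] at this
      exact (Nat.pow_lt_pow_iff_right hq'.out.one_lt).1 this
    exact absurd (hmax hmem hbig.le) (not_le.2 hbig)
  -- `Z(J(T'))` is normal
  haveI hZn : (Cfsg.centerThompsonAOf SG).Normal := normalizer_eq_top_iff.1 hN1
  have hAmT' : MaxAb (T' : Subgroup G) AG := by
    refine ⟨hASG.trans hT', hAm.2.1, fun B hB hBc => ?_⟩
    obtain ⟨g, hg⟩ := MulAction.exists_smul_eq G T' T
    have hsub : B.map (MulAut.conj g).toMonoidHom ≤ (T : Subgroup G) := by
      rw [← hg]; exact map_mono hB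
    haveI := hBc
    have := hAm.2.2 _ hsub inferInstance
    rwa [card_map_of_injective (MulAut.conj g).injective] at this
  have hAmS : MaxAb SG AG := ⟨hASG, hAm.2.1, fun B hB hBc => hAmT'.2.2 B (hB.trans hT') hBc⟩
  have hJJ : Cfsg.thompsonSubgroupAOf SG ≤ Cfsg.thompsonSubgroupAOf (T' : Subgroup G) :=
    thompson_le fun B hB => MaxAb.le_thompson ⟨hB.1.trans hT', hB.2.1,
      fun B' hB' hB'c => (hAmT'.2.2 B' hB' hB'c).trans (hB.2.2 _ hASG hAm.2.1)⟩
  have hZZ : Cfsg.centerThompsonAOf (T' : Subgroup G) ≤ Cfsg.centerThompsonAOf SG := fun z hz =>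
    ⟨hAmS.le_thompson (hAmT'.zj_le hz), mem_centralizer_iff.2 fun y hy => mem_centralizer_iff.1 hz.2 y (hJJ hy)⟩
  have haC : normalClosure ({(a : G)} : Set G) ≤ centralizer (Cfsg.centerThompsonAOf SG : Set G) := by
    refine normalClosure_le_normal (Set.singleton_subset_iff.2 (mem_centralizer_iff.2 fun z hz => ?_))
    exact (mem_centralizer_iff.1 hz.2 _ (hAmS.le_thompson haA)).symm
  have hN : normalizer (Cfsg.centerThompsonAOf (T' : Subgroup G) : Set G) = ⊤ := by
    rw [eq_top_iff]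
    obtain ⟨g, hg⟩ := MulAction.exists_smul_eq G T T'
    have htop' : normalClosure ({(a : G)} : Set G) ⊔ (T' : Subgroup G) = ⊤ := by
      have h1 := congrArg (Subgroup.map (MulAut.conj g).toMonoidHom) hKtop
      rw [hK, Subgroup.map_sup, Subgroup.map_top_of_surjective _ (MulAut.conj g).surjective] at h1
      rw [← h1, ← hg]
      congr 1
      exact (Cfsg.Agent.Lib.Components.map_conj_eq_of_mem_normalizer
        (by rw [normalizer_eq_top]; exact mem_top g)).symm
    rw [← htop']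
    refine sup_le ?_ (le_normalizer.trans (normalizer_le_normalizer_zj _))
    exact (haC.trans (centralizer_le hZZ)).trans (Subgroup.centralizer_le_normalizer _)
  exact hasInv_zj_conj T' T (by rwa [hN])

end induction

omit [Finite G] in
/-- The theorem. -/
theorem hasInv_normalizer_zj (hq : q ≠ 2) : ∀ (n : ℕ) (G : Type u) [Group G] [Finite G], Nat.card G = n →
    Concl q G := by
  intro n
  induction n using Nat.strong_induction_on with
  | _ n ihn =>
  intro G _ _ hn h T
  subst hn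
  have ih : ∀ (H : Type u) [Group H] [Finite H], Nat.card H < Nat.card G → Concl q H :=
    fun H _ _ hlt => ihn _ hlt H rfl
  rcases pCore_ne_bot_or ih hq h T with hdone | hQ
  · exact hdone
  set Q := Cfsg.pCore q G with hQdef
  obtain ⟨x, g, -, -, hx1, ⟨m, hx⟩, hgx⟩ := h.exists_inverted
  by_cases hxQ : x ∈ Q
  swap
  · refine of_quotient ih hq hQ (hasInv_of_inverted hq (mem_top ((x : G) : G ⧸ Q)) (mem_top ((g : G) : G ⧸ Q))
      (fun e => hxQ ((QuotientGroup.eq_one_iff x).1 e)) (n := m) ?_ ?_) T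
    · rw [← QuotientGroup.mk_pow, hx]; rfl
    · rw [← QuotientGroup.mk_inv, ← QuotientGroup.mk_inv, ← QuotientGroup.mk_mul, ← QuotientGroup.mk_mul, hgx]
  have hQp : IsPGroup q ↥Q := Components.pCore_isPGroup q
  by_cases hW : Cfsg.pPrimeCore q G = ⊥
  swap
  · refine of_quotient' ih hq hW (hasInv_of_inverted hq (mem_top ((x : G) : G ⧸ Cfsg.pPrimeCore q G))
      (mem_top ((g : G) : G ⧸ Cfsg.pPrimeCore q G)) (fun e => hx1 ?_) (n := m) ?_ ?_) T
    · have hm : x ∈ Q ⊓ Cfsg.pPrimeCore q G := ⟨hxQ, (QuotientGroup.eq_one_iff x).1 e⟩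
      rwa [Components.inf_eq_bot_of_pGroup_coprime hQp (Components.pPrimeCore_coprime q), mem_bot] at hm
    · rw [← QuotientGroup.mk_pow, hx]; rfl
    · rw [← QuotientGroup.mk_inv, ← QuotientGroup.mk_inv, ← QuotientGroup.mk_mul, ← QuotientGroup.mk_mul, hgx]
  -- Frattini for `C(Q)`
  set C := centralizer (Q : Set G) with hC
  obtain ⟨R, hR⟩ := Thompson.exists_sylow_inf_normal T C
  have htop := Sylow.normalizer_sup_eq_top R
  rw [hR] at htop
  obtain ⟨nn, hnn, c, hcC, hgnc⟩ := mem_sup_of_normal_right.1 (htop ▸ mem_top g)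
  have hnx : nn * x * nn⁻¹ = x⁻¹ := by
    calc nn * x * nn⁻¹ = nn * (c * x * c⁻¹) * nn⁻¹ := by
          rw [← mem_centralizer_iff.1 hcC x hxQ, mul_inv_cancel_right]
      _ = g * x * g⁻¹ := by rw [← hgnc]; group
      _ = x⁻¹ := hgx
  set NS := normalizer (((T : Subgroup G) ⊓ C : Subgroup G) : Set G) with hNS
  have hTN : (T : Subgroup G) ≤ NS := fun t ht => inf_normalizer_le_normalizer_inf
    ⟨le_normalizer ht, by rw [normalizer_eq_top]; exact mem_top t⟩
  by_cases hNtop : NS = ⊤
  swap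
  · exact descend_sylow ih hNtop
      (hasInv_of_inverted hq (hTN (Hall.pCore_le_sylow T hxQ)) hnn hx1 hx hnx) T hTN
  haveI : ((T : Subgroup G) ⊓ C).Normal := normalizer_eq_top_iff.1 hNtop
  have hSQ : (T : Subgroup G) ⊓ C ≤ Q := le_pCore_of_normal (T.isPGroup'.to_le inf_le_left)
  have hRc : normalizer ((R : Subgroup ↥C) : Set ↥C) ≤ centralizer ((R : Subgroup ↥C) : Set ↥C) := by
    intro y _
    refine mem_centralizer_iff.2 fun r hr => Subtype.ext ?_
    exact mem_centralizer_iff.1 y.2 _ (hSQ (hR ▸ mem_map_of_mem C.subtype hr))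
  have hcompl := MonoidHom.ker_transferSylow_isComplement' R hRc
  set KC := (MonoidHom.transferSylow R hRc).ker with hKC
  have hKcop : (Nat.card ↥KC).Coprime q := by
    rw [← hcompl.index_eq_card, Nat.coprime_comm, hq'.out.coprime_iff_not_dvd]
    exact R.not_dvd_index
  have hKbot : KC = ⊥ := by
    refine (map_eq_bot_iff_of_injective _ C.subtype_injective).1 (le_bot_iff.1 (hW ▸ ?_))
    refine Components.le_pPrimeCore_of_subnormal ?_ (by rwa [card_map_of_injective C.subtype_injective])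
    exact (Subgroup.Normal.isSubnormal inferInstance).trans' (Subgroup.Normal.isSubnormal inferInstance)
  have hc : C ≤ Q := by
    have h1 : (R : Subgroup ↥C) = ⊤ := by
      have := hcompl.sup_eq_top
      rwa [hKbot, bot_sup_eq] at this
    intro y hy
    refine hSQ (hR ▸ ⟨⟨y, hy⟩, ?_, rfl⟩)
    rw [SetLike.mem_coe, h1]; exact mem_top _
  exact of_self_centralizing ih hq h hc T

end Cfsg.Agent.Lib.InvZJ
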