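import Cfsg.Agent.Lib.InvZJ.Basic
import Cfsg.Agent.Lib.InvZJ.Central
import Cfsg.Agent.Lib.PStab.Consequences

/-!
From a failure of stability: a 2-element inside the normal closure of the quadratic element, nontrivial on
the `q`-group and centralizing the quadratic element in the action.
-/

set_option autoImplicit false
set_option linter.style.haveILetI false

namespace Cfsg.Agent.Lib.InvZJ

open Subgroup
open scoped MatrixGroups commutatorElement

universe u

variable {G : Type u} [Group G] [Finite G] {q : ℕ} [hq' : Fact q.Prime]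

set_option maxHeartbeats 1000000 in
theorem exists_two_element_of_not_stable (hq : q ≠ 2) {P : Subgroup G} [P.Normal] (hP : IsPGroup q ↥P) {a : G}
    (hquad : ⁅⁅P, zpowers a⁆, zpowers a⁆ = ⊥)
    (hna : (QuotientGroup.mk a : G ⧸ centralizer (P : Set G)) ∉ Cfsg.pCore q (G ⧸ centralizer (P : Set G))) :
    ∃ (h : G) (M : Subgroup G), h ∈ normalClosure ({a} : Set G) ∧ (∃ k : ℕ, h ^ 2 ^ k = 1) ∧
      h ∉ centralizer (P : Set G) ∧ M ≠ ⊤ ∧ h ∈ M ∧ P ≤ M ∧ ∀ c : G, c * a = a * c → c ∈ M := by
  classical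
  letI := PStab.fratQAddCommGroup hP
  haveI := PStab.finite_End_fratQ hP
  have hN : ∀ g : G, g ∈ normalizer (P : Set G) := fun g => by rw [normalizer_eq_top]; exact mem_top g
  let j : G →* ↥(normalizer (P : Set G)) := (MonoidHom.id G).codRestrict _ hN
  let ρ : G →* AddMonoid.End (PStab.FratQ P) := (PStab.fratRep hP).comp j
  let u : G →* (AddMonoid.End (PStab.FratQ P))ˣ := ρ.toHomUnits
  haveI : Finite u.range := Finite.of_surjective _ u.rangeRestrict_surjective
  have hcomm := PStab.commute_commutator_of_quadratic (mem_zpowers a) hquad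
  have hsq : ∀ g : G, (ρ (g * a * g⁻¹) - 1) * (ρ (g * a * g⁻¹) - 1) = 0 := fun g =>
    PStab.fratRep_sub_one_sq hP _ fun x hx => by
      have hx' : g⁻¹ * x * g ∈ P := by
        simpa using (inferInstance : P.Normal).conj_mem x hx g⁻¹
      have h := (hcomm _ hx').map (MulAut.conj g).toMonoidHom
      simp only [MulEquiv.coe_toMonoidHom, MulAut.conj_apply, map_commutatorElement] at h
      simpa [j, mul_assoc] using h
  have hno : ∀ N : Subgroup u.range, N.Normal → IsPGroup q ↥N → u.rangeRestrict a ∉ N := by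
    intro N hNn hNp haN
    refine hna ?_
    set D := N.comap u.rangeRestrict with hD
    haveI : D.Normal := hNn.comap _
    haveI : (D.map (QuotientGroup.mk' (centralizer (P : Set G)))).Normal :=
      Normal.map inferInstance _ (QuotientGroup.mk'_surjective _)
    refine Hall.le_pCore (p := q) ?_ (mem_map_of_mem (QuotientGroup.mk' _) (show a ∈ D from haN))
    rintro ⟨_, d, hd, rfl⟩
    obtain ⟨n, hn⟩ := hNp ⟨_, hd⟩
    obtain ⟨m, hm⟩ := OddLocal.exists_pow_coprime_orderOf q (d ^ q ^ n) (orderOf_pos _).ne'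
    refine ⟨n + m, Subtype.ext ?_⟩
    show (QuotientGroup.mk' _ d) ^ q ^ (n + m) = 1
    rw [← map_pow]
    refine (QuotientGroup.eq_one_iff _).2 ?_
    rw [pow_add, pow_mul]
    refine PStab.mem_centralizer_of_fratRep_eq_one hP (j ((d ^ q ^ n) ^ q ^ m)) hm ?_
    show ρ ((d ^ q ^ n) ^ q ^ m) = 1
    have h1 : u d ^ q ^ n = 1 := congrArg (fun t : N => ((t : u.range) : (AddMonoid.End (PStab.FratQ P))ˣ)) hn
    have h2 : ρ d ^ q ^ n = 1 := congrArg Units.val h1
    rw [map_pow, map_pow, h2, one_pow]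
  set X := zpowers (u.rangeRestrict a) with hX
  obtain ⟨g, hg⟩ : ∃ g : G, ¬ IsPGroup q ((closure ({a, g * a * g⁻¹} : Set G)).map u.rangeRestrict) := by
    by_contra hall
    push Not at hall
    obtain ⟨N, hNn, hNp, hXN⟩ := Involution.baerSuzuki (p := q) X (by
      intro w
      obtain ⟨g, rfl⟩ := u.rangeRestrict_surjective w
      have he : X ⊔ X.map (MulAut.conj (u.rangeRestrict g)).toMonoidHom =
          (closure ({a, g * a * g⁻¹} : Set G)).map u.rangeRestrict := by
        rw [hX, MonoidHom.map_zpowers, MonoidHom.map_closure, Set.image_pair, Set.insert_eq,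
          Subgroup.closure_union, ← zpowers_eq_closure, ← zpowers_eq_closure]
        congr 2
        simp
      rw [he]; exact hall g)
    exact hno N hNn hNp (hXN (mem_zpowers _))
  set b := g * a * g⁻¹ with hb
  set K := closure ({a, b} : Set G) with hK
  have hgen : closure ({⟨a, subset_closure (Or.inl rfl)⟩, ⟨b, subset_closure (Or.inr rfl)⟩} : Set K) = ⊤ := by
    rw [eq_top_iff]
    rintro ⟨k, hk⟩ -
    induction hk using closure_induction with
    | mem k hk =>
      rcases hk with rfl | rfl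
      · exact subset_closure (Or.inl rfl)
      · exact subset_closure (Or.inr rfl)
    | one => exact one_mem _
    | mul g h hg' hh' hg hh => exact mul_mem hg hh
    | inv g hg' hg => exact inv_mem hg
  have hxa : (ρ a - 1) * (ρ a - 1) = 0 := by simpa using hsq 1
  obtain ⟨L, π, θ, hπ, hθ, hact⟩ := PStab.exists_sl2_plane hq (ρ.comp K.subtype)
    (PStab.natCast_fratQ_eq_zero hP) hgen hxa (hsq g) (by
      by_contra hc
      push Not at hc
      refine hg fun t => ?_
      obtain ⟨k, hk, hkt⟩ := t.2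
      obtain ⟨m, hm⟩ := hc ⟨k, hk⟩
      refine ⟨m, Subtype.ext (Subtype.ext (Units.ext ?_))⟩
      rw [SubmonoidClass.coe_pow, ← hkt]
      simpa [u, ← map_pow] using hm)
  -- a 2-element acting nontrivially
  obtain ⟨l, hl⟩ := hπ (-1)
  obtain ⟨m, hm, k, hk⟩ := exists_odd_pow ((l : ↥K) : G)
  set h0 := ((l : ↥K) : G) ^ m with hh0
  have hne0 : ρ h0 ≠ 1 := by
    intro h1
    have h2 := hact (l ^ m) (![1, 0])
    rw [map_pow, hl, hm.neg_one_pow] at h2
    have h3 : (ρ.comp K.subtype) ((l ^ m : L) : ↥K) = ρ h0 := by simp [hh0]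
    rw [h3, h1] at h2
    have h4 := congrFun (hθ h2) 0
    simp [Matrix.neg_mulVec] at h4
    have h5 : (2 : ZMod q) = 0 := by linear_combination h4
    exact hq ((Nat.prime_dvd_prime_iff_eq hq'.out Nat.prime_two).1
      ((ZMod.natCast_eq_zero_iff 2 q).1 (by exact_mod_cast h5) : q ∣ 2))
  have hex : ∃ i, ρ (h0 ^ 2 ^ i) = 1 := ⟨k, by rw [hk, map_one]⟩
  obtain ⟨i, hi, hmin⟩ : ∃ i, ρ (h0 ^ 2 ^ i) = 1 ∧ ∀ t < i, ρ (h0 ^ 2 ^ t) ≠ 1 :=
    ⟨Nat.find hex, Nat.find_spec hex, fun t ht => Nat.find_min hex ht⟩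
  obtain ⟨i', rfl⟩ : ∃ i', i = i' + 1 := Nat.exists_eq_succ_of_ne_zero (by
    rintro rfl; exact hne0 (by simpa using hi))
  set h := h0 ^ 2 ^ i' with hh
  have hh1 : ρ h ≠ 1 := hmin i' (by omega)
  have hh2 : ρ h * ρ h = 1 := by
    rw [← map_mul, hh, ← pow_add]
    convert hi using 3; ring
  have hhK : h ∈ K := pow_mem (pow_mem (l : ↥K).2 m) _
  have hcom : Commute (ρ h) (ρ a) := commute_of_sq_eq_one (hq'.out.odd_of_ne_two hq)
    (PStab.natCast_fratQ_eq_zero hP) ρ a b hxa (hsq g) hhK hh2
  refine ⟨h, (normalizer (X : Set u.range)).comap u.rangeRestrict, ?_, ⟨k, ?_⟩, ?_, ?_, ?_, ?_, ?_⟩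
  · refine (closure_le _).2 ?_ hhK
    rintro x (rfl | hx)
    · exact subset_normalClosure rfl
    · rw [Set.mem_singleton_iff.1 hx, hb]
      exact (normalClosure_normal (s := ({a} : Set G))).conj_mem a (subset_normalClosure rfl) g
  · rw [hh, ← pow_mul, mul_comm, pow_mul, hk, one_pow]
  · intro hc
    refine hh1 (AddMonoidHom.ext fun v => ?_)
    obtain ⟨x, rfl⟩ := PStab.fq_surjective P v
    show PStab.fratRep hP (j h) (PStab.fq x) = PStab.fq x
    rw [PStab.fratRep_fq hP]
    refine congrArg PStab.fq (Subtype.ext ?_)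
    show h * (x : G) * h⁻¹ = x
    rw [← mem_centralizer_iff.1 hc x x.2, mul_inv_cancel_right]
  · intro htop
    have hXn : X.Normal := by
      refine normalizer_eq_top_iff.1 ?_
      rw [eq_top_iff]
      intro w _
      obtain ⟨g', rfl⟩ := u.rangeRestrict_surjective w
      exact (htop.symm ▸ mem_top g' : g' ∈ (normalizer (X : Set u.range)).comap u.rangeRestrict)
    refine hno X hXn ?_ (mem_zpowers _)
    have hu : u.rangeRestrict a ^ q = 1 := by
      refine Subtype.ext (Units.ext ?_)
      show ((u a) ^ q : (AddMonoid.End (PStab.FratQ P))ˣ).val = 1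
      rw [Units.val_pow_eq_pow_val]
      show ρ a ^ q = 1
      have hz : ∀ n : ℕ, ρ a ^ n = 1 + n • (ρ a - 1) := fun n => by
        induction n with
        | zero => simp
        | succ n ih =>
          rw [pow_succ, ih, add_mul, one_mul, smul_mul_assoc, succ_nsmul,
            show (ρ a - 1) * ρ a = ρ a - 1 by
              calc (ρ a - 1) * ρ a = (ρ a - 1) * (ρ a - 1) + (ρ a - 1) := by rw [mul_sub, mul_one]; abel
                _ = _ := by rw [hxa, zero_add]]
          abel
      rw [hz, nsmul_eq_mul, PStab.natCast_fratQ_eq_zero hP, zero_mul, add_zero]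
    obtain ⟨i, -, hi⟩ := (Nat.dvd_prime hq'.out).1 (orderOf_dvd_of_pow_eq_one hu) |>.elim
      (fun e => (⟨0, trivial, by rw [e, pow_zero]⟩ : ∃ i : ℕ, True ∧ orderOf (u.rangeRestrict a) = q ^ i))
      (fun e => ⟨1, trivial, by rw [e, pow_one]⟩)
    exact IsPGroup.of_card (n := i) (by rw [Nat.card_zpowers, hi])
  · refine Subgroup.centralizer_le_normalizer _ ?_
    rw [hX, zpowers_eq_closure, centralizer_closure, mem_centralizer_singleton_iff]
    exact Subtype.ext (Units.ext hcom)
  · intro x hx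
    have hx1 : u.rangeRestrict x = 1 := by
      refine Subtype.ext (Units.ext (AddMonoidHom.ext fun v => ?_))
      obtain ⟨y, rfl⟩ := PStab.fq_surjective P v
      show PStab.fratRep hP (j x) (PStab.fq y) = PStab.fq y
      rw [PStab.fratRep_fq hP]
      have e : PStab.conjIn (j x) y = ⟨x, hx⟩ * y * ⟨x, hx⟩⁻¹ := rfl
      rw [e, PStab.fq_mul, PStab.fq_mul,
        show PStab.fq (⟨x, hx⟩ : P)⁻¹ = -PStab.fq (⟨x, hx⟩ : P) from rfl]
      abel
    show u.rangeRestrict x ∈ normalizer (X : Set u.range)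
    rw [hx1]; exact one_mem _
  · intro c hc
    refine Subgroup.centralizer_le_normalizer _ ?_
    rw [hX, zpowers_eq_closure, centralizer_closure, mem_centralizer_singleton_iff, ← map_mul, ← map_mul, hc]

end Cfsg.Agent.Lib.InvZJ
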